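import Groth.Agent.H98TorDim.Smooth

/-!
# Restricting tor dimension to an open
-/

set_option autoImplicit false
set_option backward.isDefEq.respectTransparency.types false

universe u

open CategoryTheory CategoryTheory.Limits AlgebraicGeometry

attribute [local instance] HasDerivedCategory.standard

namespace Groth.Agent.H98TorDim

open DR39

/-- The stalk complex of the structure sheaf is the local ring over the base local ring. -/
noncomputable def unitStalkIso {X Y : Scheme.{u}} (f : X ⟶ Y) (x : X) :
    DRing.toD ((DerSch.stalkCxOver f x).obj (DerSch.unitCx X)) ≅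
      Dual.inD (Y.presheaf.stalk (f x))
        ((ModuleCat.restrictScalars (f.stalkMap x).hom).obj
          (ModuleCat.of (X.presheaf.stalk x) (X.presheaf.stalk x))) :=
  Fam20.TorSmooth.stalkSingleIso f x (Coh.structureModule X) ≪≫
    (DerivedCategory.singleFunctor (ModuleCat.{u} (Y.presheaf.stalk (f x))) 0).mapIso
      ((ModuleCat.restrictScalars (f.stalkMap x).hom).mapIso
        (show (DerSch.stalkFunctor X x).obj (Coh.structureModule X) ≅
          ModuleCat.of (X.presheaf.stalk x) (X.presheaf.stalk x) from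
          (QC70.unitStalkEquiv x).symm.toModuleIso))

theorem hasFiniteTorDim_open {X Y : Scheme.{u}} (f : X ⟶ Y) (U : X.Opens) (hf : DerSch.HasFiniteTorDim f) :
    DerSch.HasFiniteTorDim (U.ι ≫ f) := by
  obtain ⟨a, b, hab⟩ := hf
  refine ⟨a, b, fun x => TA.of_iso (a := a) (b := b) (TA.of_iso (a := a) (b := b) (hab (U.ι x))
    (unitStalkIso f (U.ι x))) (?_ ≪≫ (unitStalkIso (U.ι ≫ f) x).symm)⟩
  haveI : IsIso (U.ι.stalkMap x) := (IsOpenImmersion.iff_isIso_stalkMap.mp inferInstance).2 x
  let e := (asIso (U.ι.stalkMap x)).commRingCatIsoToRingEquiv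
  let N : ModuleCat.{u} (Y.presheaf.stalk (f (U.ι x))) :=
    (ModuleCat.restrictScalars ((U.ι ≫ f).stalkMap x).hom).obj
      (ModuleCat.of (U.toScheme.presheaf.stalk x) (U.toScheme.presheaf.stalk x))
  exact inDIso
    (M := (ModuleCat.restrictScalars (f.stalkMap (U.ι x)).hom).obj
      (ModuleCat.of (X.presheaf.stalk (U.ι x)) (X.presheaf.stalk (U.ι x))))
    (N := N)
    { e.toAddEquiv with
      map_smul' := fun r (m : X.presheaf.stalk (U.ι x)) => by
        change e ((f.stalkMap (U.ι x)).hom r * m) = ((U.ι ≫ f).stalkMap x).hom r * e m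
        rw [map_mul, Scheme.Hom.stalkMap_comp]
        rfl }

end Groth.Agent.H98TorDim
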