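import Groth.Agent.Fam20.TorSmooth

/-!
# Uniform tor dimension over a smooth scheme of given relative dimension
(the pointwise proofs of `Fam20.TorSmooth` with the bounds recorded)
-/

set_option autoImplicit false
set_option linter.style.haveILetI false
set_option backward.isDefEq.respectTransparency.types false

universe u

open CategoryTheory CategoryTheory.Limits AlgebraicGeometry

attribute [local instance] HasDerivedCategory.standard

namespace Groth.Agent.H98TorDim

open DR39

/-- Algebraic core: tor dimension over a localisation `R` of `R₀` passes to weakly etale algebras over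
polynomial rings over `R₀`. -/
theorem ta_core_bound {R₀ R A : Type u} [CommRing R₀] [CommRing R] [CommRing A] [Algebra R₀ R]
    [Module.Flat R₀ R] {n : ℕ} [Algebra (MvPolynomial (Fin n) R₀) A]
    [Algebra.WeaklyEtale (MvPolynomial (Fin n) R₀) A]
    (M : Type u) [AddCommGroup M] [Module R M] [Module A M]
    (hcompat : ∀ (r : R₀) (m : M),
      algebraMap R₀ R r • m = algebraMap (MvPolynomial (Fin n) R₀) A (MvPolynomial.C r) • m)
    {a b : ℤ} (h : TA a b (Dual.inD R M)) :
    TA (-(((-a).toNat + n : ℕ) : ℤ)) 0 (Dual.inD A M) := by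
  let d := (-a).toNat
  have hd : TA (-(d : ℤ)) 0 (Dual.inD R M) := by
    exact LCI19.ta_inD_right (b := max b 0) (le_max_right b 0) le_rfl
      (h.mono (by omega) (le_max_left b 0))
  have hflat : TA (A := R₀) 0 0
      (Dual.inD R₀ ((ModuleCat.restrictScalars (algebraMap R₀ R)).obj (ModuleCat.of R R))) := by
    refine TA.of_iso (ta_inD_of_flat (A := R₀) R) ?_
    exact inDIso (M := R) (N := (ModuleCat.restrictScalars (algebraMap R₀ R)).obj (ModuleCat.of R R))
      { AddEquiv.refl R with map_smul' := fun r x => Algebra.smul_def r x }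
  have h0 := ta_restrict (algebraMap R₀ R) hflat hd
  letI : Module R₀ M := Module.compHom M (algebraMap R₀ R)
  have h1 : TA (-(d : ℤ)) 0 (Dual.inD R₀ M) := by
    refine TA.of_iso (h0.mono (by simp) (by simp)) ?_
    exact ((ModuleCat.restrictScalars.{u} (algebraMap R₀ R)).mapDerivedCategorySingleFunctor 0).app
        (ModuleCat.of R M) ≪≫
      inDIso (M := (ModuleCat.restrictScalars (algebraMap R₀ R)).obj (ModuleCat.of R M)) (N := M)
        { AddEquiv.refl _ with map_smul' := fun r x => rfl }
  let P := MvPolynomial (Fin n) R₀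
  letI : Module P M := Module.compHom M (algebraMap P A)
  have : IsScalarTower P A M := IsScalarTower.of_algebraMap_smul fun _ _ => rfl
  have : IsScalarTower R₀ P M := IsScalarTower.of_algebraMap_smul fun r m => by
    rw [MvPolynomial.algebraMap_eq]
    exact (hcompat r m).symm
  have h2 := LCI19.ta_mvPolynomial n (A := R₀) M h1
  exact GIT36.TorDim.ta_of_weaklyEtale (A := P) (B := A) (d := d + n)
    (h2.mono (by push_cast; omega) le_rfl)

theorem ta_bound {X B S : Scheme.{u}} (n : ℕ) (h : B ⟶ S) [SmoothOfRelativeDimension n h] (φ : X ⟶ B) (x : X)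
    (M : ModuleCat.{u} (X.presheaf.stalk x)) {a b : ℤ}
    (hS : TA a b (Dual.inD (S.presheaf.stalk ((φ ≫ h) x))
      ((ModuleCat.restrictScalars ((φ ≫ h).stalkMap x).hom).obj M))) :
    TA (-(((-a).toNat + n : ℕ) : ℤ)) 0 (Dual.inD (B.presheaf.stalk (φ x))
      ((ModuleCat.restrictScalars (φ.stalkMap x).hom).obj M)) := by
  obtain ⟨U, hU, V, hV, hyV, e, hstd⟩ :=
    SmoothOfRelativeDimension.exists_isStandardSmoothOfRelativeDimension (n := n) (f := h) (φ x)
  obtain ⟨g, hgC, hg⟩ := hstd.exists_etale_mvPolynomial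
  have hsU : h (φ x) ∈ U := e hyV
  let R₀ := Γ(S, U)
  let A := B.presheaf.stalk (φ x)
  let R := S.presheaf.stalk ((φ ≫ h) x)
  let P := MvPolynomial (Fin n) R₀
  letI : Algebra P Γ(B, V) := g.toAlgebra
  letI : Algebra Γ(B, V) A := (B.presheaf.germ V (φ x) hyV).hom.toAlgebra
  letI : Algebra P A := ((algebraMap Γ(B, V) A).comp g).toAlgebra
  have : IsScalarTower P Γ(B, V) A := IsScalarTower.of_algebraMap_eq fun _ => rfl
  have : Algebra.Etale P Γ(B, V) := RingHom.etale_algebraMap.mp hg
  have : IsLocalization.AtPrime A (hV.primeIdealOf ⟨φ x, hyV⟩).asIdeal := hV.isLocalization_stalk ⟨φ x, hyV⟩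
  have : Algebra.WeaklyEtale Γ(B, V) A :=
    WE91.weaklyEtale_of_isLocalization Γ(B, V) A (hV.primeIdealOf ⟨φ x, hyV⟩).asIdeal.primeCompl
  have : Algebra.WeaklyEtale P A := Algebra.WeaklyEtale.trans P Γ(B, V) A
  letI : Algebra R₀ R := (S.presheaf.germ U ((φ ≫ h) x) hsU).hom.toAlgebra
  have : IsLocalization.AtPrime R (hU.primeIdealOf ⟨(φ ≫ h) x, hsU⟩).asIdeal :=
    hU.isLocalization_stalk ⟨(φ ≫ h) x, hsU⟩
  have : Module.Flat R₀ R := IsLocalization.flat _ (hU.primeIdealOf ⟨(φ ≫ h) x, hsU⟩).asIdeal.primeCompl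
  letI mR : Module R M := Module.compHom M ((φ ≫ h).stalkMap x).hom
  letI mA : Module A M := Module.compHom M (φ.stalkMap x).hom
  have hcompat : ∀ (r : R₀) (m : M),
      algebraMap R₀ R r • m = algebraMap P A (MvPolynomial.C r) • m := by
    intro r m
    change ((φ ≫ h).stalkMap x).hom (S.presheaf.germ U _ hsU r) • m =
      (φ.stalkMap x).hom (B.presheaf.germ V (φ x) hyV (g (MvPolynomial.C r))) • m
    congr 1
    rw [← RingHom.comp_apply g MvPolynomial.C, hgC, Scheme.Hom.stalkMap_comp]
    refine Eq.trans (CommRingCat.comp_apply _ _ _) ?_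
    refine congrArg _ ?_
    refine (Scheme.Hom.germ_stalkMap_apply h U (φ x) hsU r).trans ?_
    exact (TopCat.Presheaf.germ_res_apply _ _ _ hyV _).symm
  have hS' : TA a b (Dual.inD R M) := TA.of_iso hS (inDIso
    (M := (ModuleCat.restrictScalars ((φ ≫ h).stalkMap x).hom).obj M) (N := M)
    { AddEquiv.refl _ with map_smul' := fun r x => rfl })
  exact TA.of_iso (ta_core_bound (R₀ := R₀) (R := R) (A := A) M hcompat hS') (inDIso
    (M := M) (N := (ModuleCat.restrictScalars (φ.stalkMap x).hom).obj M)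
    { AddEquiv.refl _ with map_smul' := fun r x => rfl })

/-- A map to a smooth scheme over the base has finite tor dimension if the composite has. -/
theorem hasFiniteTorDim_of_smooth {X B S : Scheme.{u}} (n : ℕ) (h : B ⟶ S) [SmoothOfRelativeDimension n h]
    (φ : X ⟶ B) {f : X ⟶ S} (e : φ ≫ h = f) (hf : DerSch.HasFiniteTorDim f) :
    DerSch.HasFiniteTorDim φ := by
  subst e
  obtain ⟨a, b, hab⟩ := hf
  exact ⟨_, _, fun x => TA.of_iso
    (ta_bound n h φ x ((DerSch.stalkFunctor X x).obj (Coh.structureModule X))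
      (TA.of_iso (a := a) (b := b) (hab x) (Fam20.TorSmooth.stalkSingleIso (φ ≫ h) x _)))
    (Fam20.TorSmooth.stalkSingleIso φ x _).symm⟩

end Groth.Agent.H98TorDim
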